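import Mathlib
import Groth.Agent.FBase64.TensorField

set_option autoImplicit false
set_option linter.unusedSectionVars false
universe u

open scoped TensorProduct

namespace Groth.Agent.InsepMult31

/-- base change of a purely transcendental extension is reduced -/
theorem isReduced_tensor_fractionRing (k K F : Type u) (ι : Type*) [Field k] [Field K] [Algebra k K]
    [Field F] [Algebra (MvPolynomial ι k) F] [IsFractionRing (MvPolynomial ι k) F] [Algebra k F]
    [IsScalarTower k (MvPolynomial ι k) F] : IsReduced (F ⊗[k] K) := by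
  let P := MvPolynomial ι k
  have : IsDomain (K ⊗[k] P) :=
    (MvPolynomial.algebraTensorAlgEquiv (σ := ι) k K).toRingEquiv.toMulEquiv.isDomain
  have : IsReduced (P ⊗[k] K) := isReduced_of_injective (Algebra.TensorProduct.comm k P K)
    (Algebra.TensorProduct.comm k P K).injective
  let g : P ⊗[k] K →ₐ[k] F ⊗[k] K :=
    Algebra.TensorProduct.map (IsScalarTower.toAlgHom k P F) (AlgHom.id k K)
  have hg : Function.Injective g := Groth.Agent.FBase64.map_injective_left _ (IsFractionRing.injective P F)
  have key : ∀ z : F ⊗[k] K, ∃ (w : P ⊗[k] K) (s : P), s ≠ 0 ∧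
      z * (algebraMap P F s ⊗ₜ[k] 1) = g w := by
    intro z
    induction z using TensorProduct.induction_on with
    | zero => exact ⟨0, 1, one_ne_zero, by simp⟩
    | tmul x c =>
      obtain ⟨a, s, hs, rfl⟩ := IsFractionRing.div_surjective P x
      have hs' : algebraMap P F s ≠ 0 :=
        (map_ne_zero_iff _ (IsFractionRing.injective P F)).2 (nonZeroDivisors.ne_zero hs)
      refine ⟨a ⊗ₜ[k] c, s, nonZeroDivisors.ne_zero hs, ?_⟩
      rw [Algebra.TensorProduct.tmul_mul_tmul, mul_one, div_mul_cancel₀ _ hs']
      rfl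
    | add x y hx hy =>
      obtain ⟨w, s, hs, hw⟩ := hx
      obtain ⟨w', s', hs', hw'⟩ := hy
      refine ⟨w * (s' ⊗ₜ[k] 1) + w' * (s ⊗ₜ[k] 1), s * s', mul_ne_zero hs hs', ?_⟩
      have e : ∀ t : P, g (t ⊗ₜ 1) = algebraMap P F t ⊗ₜ[k] (1 : K) := fun t =>
        Algebra.TensorProduct.map_tmul _ _ _ _
      simp only [map_add, map_mul, e]
      rw [← hw, ← hw', mul_assoc, mul_assoc,
        Algebra.TensorProduct.tmul_mul_tmul, Algebra.TensorProduct.tmul_mul_tmul, mul_one,
        mul_comm (algebraMap P F s') (algebraMap P F s), add_mul]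
  refine ⟨fun z hz => ?_⟩
  obtain ⟨w, s, hs, hw⟩ := key z
  have hw0 : w = 0 := by
    have h : IsNilpotent (g w) := hw ▸ (Commute.all _ _).isNilpotent_mul_right hz
    obtain ⟨n, hn⟩ := h
    exact IsReduced.eq_zero w ⟨n, hg (by rw [map_pow, hn, map_zero])⟩
  have hu : IsUnit (algebraMap P F s ⊗ₜ[k] (1 : K)) :=
    (isUnit_iff_ne_zero.2 ((map_ne_zero_iff _ (IsFractionRing.injective P F)).2 hs)).map
      (Algebra.TensorProduct.includeLeftRingHom : F →+* F ⊗[k] K)
  rw [hw0, map_zero] at hw
  exact hu.mul_left_eq_zero.1 hw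

/-- multiplicities of a purely inseparable free cover of a reduced ring -/
theorem length_localization_eq_pow {C D : Type u} [CommRing C] [IsReduced C] [CommRing D] [Algebra C D]
    {p : ℕ} (hp : p = 1 ∨ p.Prime) {N : ℕ} {ι : Type u} [Fintype ι] (b : Module.Basis ι C D)
    (hι : Fintype.card ι = p ^ N) (hpow : ∀ x : D, ∃ c : C, x ^ p ^ N = algebraMap C D c)
    (q : Ideal D) [q.IsPrime] (hq : q ∈ minimalPrimes D) :
    ∃ n : ℕ, Module.length (Localization.AtPrime q) (Localization.AtPrime q) = (p ^ n : ℕ) := by
  classical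
  have : Module.Finite C D := Module.Finite.of_basis b
  have : Module.Free C D := Module.Free.of_basis b
  have hq0 : 0 < p ^ N := by
    rcases hp with rfl | h
    · simp
    · exact pow_pos h.pos N
  have : Nonempty ι := Fintype.card_pos_iff.1 (by rw [hι]; exact hq0)
  obtain ⟨i₀⟩ := this
  have hinj : Function.Injective (algebraMap C D) := by
    rw [injective_iff_map_eq_zero]
    intro c hc
    have h1 := congrArg (fun x => b.repr x i₀) (show c • b i₀ = 0 by rw [Algebra.smul_def, hc, zero_mul])
    simpa using h1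
  set q0 := q.comap (algebraMap C D) with hq0def
  have hq0min : q0 ∈ minimalPrimes C := by
    refine ⟨⟨inferInstance, bot_le⟩, fun r hr hle => ?_⟩
    have : r.IsPrime := hr.1
    obtain ⟨q', -, hq', hq'r⟩ := Ideal.exists_ideal_over_prime_of_isIntegral r (⊥ : Ideal D) (by
      rw [← RingHom.ker_eq_comap_bot, (RingHom.injective_iff_ker_eq_bot _).1 hinj]; exact bot_le)
    have hq'q : q' ≤ q := by
      intro x hx
      obtain ⟨c, hc⟩ := hpow x
      have h1 : c ∈ r := by
        rw [← hq'r, Ideal.mem_comap, ← hc]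
        exact Ideal.pow_mem_of_mem _ hx _ hq0
      exact ‹q.IsPrime›.mem_of_pow_mem (p ^ N) (hc ▸ hle h1)
    have heq : q = q' := le_antisymm (hq.2 ⟨hq', bot_le⟩ hq'q) hq'q
    rw [hq0def, heq, hq'r]
  let Φ := Localization.AtPrime q0
  let Dq := Localization.AtPrime q
  have hΦ : IsField Φ := by
    have : Ring.KrullDimLE 0 Φ := by
      rw [Ring.KrullDimLE, Order.krullDimLE_iff]
      change ringKrullDim Φ ≤ _
      rw [IsLocalization.AtPrime.ringKrullDim_eq_height q0 Φ, Ideal.height_eq_zero_iff.2 hq0min]
      simp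
    exact Ring.KrullDimLE.isField_of_isReduced
  letI := Localization.AtPrime.algebraOfLiesOver q0 q
  have hloc : IsLocalization (Algebra.algebraMapSubmonoid D q0.primeCompl) Dq := by
    have hmul : ∀ s ∈ q.primeCompl, ∃ m : D, m * s ∈ Algebra.algebraMapSubmonoid D q0.primeCompl := by
      intro s hs
      obtain ⟨c, hc⟩ := hpow s
      refine ⟨s ^ (p ^ N - 1), c, fun h => hs (‹q.IsPrime›.mem_of_pow_mem (p ^ N) ?_), ?_⟩
      · rw [hc]; exact h
      rw [← hc, ← pow_succ, Nat.sub_add_cancel hq0]
    refine ⟨⟨?_, ?_, ?_⟩⟩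
    · rintro ⟨_, c, hc, rfl⟩
      exact IsLocalization.map_units Dq (⟨algebraMap C D c, hc⟩ : q.primeCompl)
    · intro z
      obtain ⟨⟨y, s⟩, hys⟩ := IsLocalization.surj q.primeCompl z
      obtain ⟨m, hm⟩ := hmul s.1 s.2
      refine ⟨(m * y, ⟨_, hm⟩), ?_⟩
      simp only [map_mul]
      rw [← hys]; ring
    · intro x y hxy
      obtain ⟨c, hc⟩ := IsLocalization.exists_of_eq (M := q.primeCompl) hxy
      obtain ⟨m, hm⟩ := hmul c.1 c.2
      exact ⟨⟨_, hm⟩, by simp only [mul_assoc, hc]⟩
  have bq : Module.Basis ι Φ Dq :=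
    b.ofIsLocalizedModule Φ q0.primeCompl (IsScalarTower.toAlgHom C D Dq).toLinearMap
  have hlen : Module.length Φ Dq = (p ^ N : ℕ) := by
    letI := hΦ.toField
    have : Module.Finite Φ Dq := Module.Finite.of_basis bq
    rw [Module.length_eq_finrank, Module.finrank_eq_card_basis bq, hι]
  have : IsLocalHom (algebraMap Φ Dq) := by
    refine ⟨fun a ha => ?_⟩
    obtain ⟨a', ha'⟩ := hΦ.mul_inv_cancel (a := a) (fun h => not_isUnit_zero
      (by rwa [h, map_zero] at ha))
    exact IsUnit.of_mul_eq_one a' ha'
  have h := IsLocalRing.length_restrictScalars Φ Dq Dq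
  rw [hlen] at h
  generalize Module.length Dq Dq = a at h ⊢
  generalize Module.length (IsLocalRing.ResidueField Φ) (IsLocalRing.ResidueField Dq) = r at h
  induction a using ENat.recTopCoe with
  | top =>
    rcases eq_or_ne r 0 with rfl | hr
    · rw [mul_zero] at h; exact absurd (Nat.cast_eq_zero.1 h) hq0.ne'
    · simp [ENat.top_mul hr] at h
  | coe a =>
    induction r using ENat.recTopCoe with
    | top =>
      rcases eq_or_ne a 0 with rfl | ha
      · rw [Nat.cast_zero, zero_mul] at h; exact absurd (Nat.cast_eq_zero.1 h) hq0.ne'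
      · simp [ENat.mul_top (Nat.cast_ne_zero.2 ha)] at h
    | coe r =>
      norm_cast at h
      rcases hp with rfl | hpp
      · simp only [one_pow] at h
        exact ⟨0, by rw [Nat.eq_one_of_mul_eq_one_right h.symm]; simp⟩
      · obtain ⟨n, -, hn⟩ := (Nat.dvd_prime_pow hpp).1 (Dvd.intro r h.symm)
        exact ⟨n, by rw [hn]⟩

theorem length_of_ringEquiv {R R' : Type u} [CommRing R] [CommRing R'] (e : R ≃+* R') :
    Module.length R R = Module.length R' R' :=
  WithBot.coe_injective (by
    rw [Module.coe_length, Module.coe_length]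
    exact (Order.krullDim_eq_of_orderIso e.idealComapOrderIso).symm)

theorem isReduced_tensor_separable (k K F E : Type u) [Field k] [CommRing K] [Algebra k K] [Field F]
    [Algebra k F] [Field E] [Algebra F E] [Algebra k E] [IsScalarTower k F E] [FiniteDimensional F E]
    [Algebra.IsSeparable F E] [IsReduced (F ⊗[k] K)] : IsReduced (E ⊗[k] K) := by
  have : Algebra.IsGeometricallyReduced F E := by
    rw [Algebra.isGeometricallyReduced_field_iff]
    have := Algebra.FormallyUnramified.of_isSeparable F E
    exact Algebra.FormallyUnramified.isReduced_of_field (AlgebraicClosure F) _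
  have h1 : IsReduced ((F ⊗[k] K) ⊗[F] E) :=
    Groth.Agent.FBase64.isReduced_tensor_of_geomReduced F E (F ⊗[k] K)
  have h2 : IsReduced (E ⊗[F] (F ⊗[k] K)) :=
    isReduced_of_injective (Algebra.TensorProduct.comm F E (F ⊗[k] K)) (AlgEquiv.injective _)
  exact isReduced_of_injective (Algebra.TensorProduct.cancelBaseChange k F E E K).symm
    (AlgEquiv.injective _)

theorem length_localization_purelyInseparable (k K E L : Type u) [Field k] [Field K] [Field E] [Field L]
    [Algebra k K] [Algebra k E] [Algebra k L] [Algebra E L] [IsScalarTower k E L] [FiniteDimensional E L]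
    [IsPurelyInseparable E L] [IsReduced (E ⊗[k] K)] (p : ℕ) [ExpChar k p]
    (q : Ideal (K ⊗[k] L)) [q.IsPrime] (hq : q ∈ minimalPrimes (K ⊗[k] L)) :
    ∃ n : ℕ, Module.length (Localization.AtPrime q) (Localization.AtPrime q) = (p ^ n : ℕ) := by
  classical
  let C := E ⊗[k] K
  have : ExpChar E p := expChar_of_injective_algebraMap (algebraMap k E).injective p
  obtain ⟨N, hN⟩ := IsPurelyInseparable.finrank_eq_pow (F := E) L p
  let D := C ⊗[E] L
  let e : D ≃+* K ⊗[k] L := (Algebra.TensorProduct.comm E C L).toRingEquiv.trans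
    ((Algebra.TensorProduct.cancelBaseChange k E L L K).toRingEquiv.trans
      (Algebra.TensorProduct.comm k L K).toRingEquiv)
  let q' := q.comap (e : D →+* K ⊗[k] L)
  have hq' : q' ∈ minimalPrimes D := by
    refine ⟨⟨inferInstance, bot_le⟩, fun r hr hle => ?_⟩
    have : r.IsPrime := hr.1
    have h1 : r.comap (e.symm : K ⊗[k] L →+* D) ≤ q := fun a ha => by
      have h := hle ha
      change e (e.symm a) ∈ q at h
      rwa [e.apply_symm_apply] at h
    have h2 := hq.2 ⟨inferInstance, bot_le⟩ h1
    intro a ha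
    simpa using h2 ha
  have hnt : Nontrivial D := by
    by_contra h
    rw [not_nontrivial_iff_subsingleton] at h
    exact (Ideal.IsPrime.ne_top (I := q') inferInstance) (Subsingleton.elim _ _)
  have : ExpChar D p := expChar_of_injective_algebraMap (algebraMap E D).injective p
  have hp : p = 1 ∨ p.Prime := by
    rcases ‹ExpChar k p› with _ | ⟨hprime⟩
    · exact Or.inl rfl
    · exact Or.inr hprime
  have hE : ∀ a : L, ∃ y : E, a ^ p ^ N = algebraMap E L y := by
    intro a
    obtain ⟨n, y, hy⟩ := IsPurelyInseparable.minpoly_eq_X_pow_sub_C E p a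
    have ha : a ^ p ^ n = algebraMap E L y := by
      have := minpoly.aeval E a
      rw [hy] at this
      simpa [sub_eq_zero] using this
    rcases hp with rfl | hpp
    · exact ⟨y, by simpa using ha⟩
    have hn : n ≤ N := by
      have h1 := minpoly.natDegree_le (A := E) a
      rw [hy, hN, Polynomial.natDegree_sub_C, Polynomial.natDegree_X_pow] at h1
      exact (Nat.pow_le_pow_iff_right hpp.one_lt).1 h1
    exact ⟨y ^ p ^ (N - n), by rw [map_pow, ← ha, ← pow_mul, ← pow_add, Nat.add_sub_cancel' hn]⟩
  have hpow : ∀ z : D, ∃ c : C, z ^ p ^ N = algebraMap C D c := by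
    intro z
    induction z using TensorProduct.induction_on with
    | zero => exact ⟨0, by rw [zero_pow (pow_pos (expChar_pos k p) N).ne', map_zero]⟩
    | tmul c a =>
      obtain ⟨y, hy⟩ := hE a
      refine ⟨y • c ^ p ^ N, ?_⟩
      rw [Algebra.TensorProduct.tmul_pow, hy, Algebra.algebraMap_eq_smul_one, ← TensorProduct.smul_tmul]
      rfl
    | add z w hz hw =>
      obtain ⟨c, hc⟩ := hz
      obtain ⟨c', hc'⟩ := hw
      exact ⟨c + c', by rw [add_pow_expChar_pow, hc, hc', map_add]⟩
  let bL := Module.Free.chooseBasis E L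
  obtain ⟨n, hn⟩ := length_localization_eq_pow (C := C) hp (Algebra.TensorProduct.basis C bL)
    (by rw [← Module.finrank_eq_card_basis bL, hN]) hpow q' hq'
  refine ⟨n, ?_⟩
  rw [← hn]
  refine (length_of_ringEquiv (IsLocalization.ringEquivOfRingEquiv
    (M := q'.primeCompl) (T := q.primeCompl) (Localization.AtPrime q') (Localization.AtPrime q) e ?_)).symm
  ext a
  simp only [Submonoid.mem_map, Ideal.mem_primeCompl_iff]
  exact ⟨by rintro ⟨b, hb, rfl⟩; exact hb,
    fun h => ⟨e.symm a, show e (e.symm a) ∉ q by rwa [e.apply_symm_apply], e.apply_symm_apply a⟩⟩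

theorem length_localization_baseChange (k K L : Type u) [Field k] [Field K] [Field L] [Algebra k K]
    [Algebra k L] (hL : (⊤ : IntermediateField k L).FG) (p : ℕ) [ExpChar k p]
    (q : Ideal (K ⊗[k] L)) [q.IsPrime] (hq : q ∈ minimalPrimes (K ⊗[k] L)) :
    ∃ n : ℕ, Module.length (Localization.AtPrime q) (Localization.AtPrime q) = (p ^ n : ℕ) := by
  classical
  obtain ⟨s, hs⟩ := hL
  obtain ⟨ι, x, hx⟩ := exists_isTranscendenceBasis' k L
  let F := IntermediateField.adjoin k (Set.range x)
  have : Algebra.IsAlgebraic F L := hx.isAlgebraic_field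
  have : FiniteDimensional F L := by
    have h1 : IntermediateField.adjoin F (s : Set L) = ⊤ := by
      apply IntermediateField.restrictScalars_injective k
      rw [IntermediateField.restrictScalars_top, eq_top_iff, ← hs, IntermediateField.adjoin_le_iff]
      exact fun a ha => IntermediateField.subset_adjoin F _ ha
    have h2 : FiniteDimensional F (IntermediateField.adjoin F (s : Set L)) :=
      IntermediateField.finiteDimensional_adjoin fun a _ =>
        (Algebra.IsAlgebraic.isAlgebraic (R := F) a).isIntegral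
    rw [h1] at h2
    exact Module.Finite.equiv IntermediateField.topEquiv.toLinearEquiv
  -- the purely transcendental part
  let e0 := hx.1.aevalEquivField
  have : IsReduced (FractionRing (MvPolynomial ι k) ⊗[k] K) :=
    isReduced_tensor_fractionRing k K _ ι
  have : IsReduced (F ⊗[k] K) :=
    isReduced_of_injective (Algebra.TensorProduct.map e0.symm.toAlgHom (AlgHom.id k K))
      (Groth.Agent.FBase64.map_injective_left _ e0.symm.injective)
  -- the separable part
  let E := separableClosure F L
  have : FiniteDimensional F E := inferInstance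
  have : IsScalarTower k E L := IsScalarTower.of_algebraMap_eq fun _ => rfl
  have : IsScalarTower k F E := IsScalarTower.of_algebraMap_eq fun _ => Subtype.ext rfl
  have : IsReduced (E ⊗[k] K) := isReduced_tensor_separable k K F E
  have : IsPurelyInseparable E L := separableClosure.isPurelyInseparable F L
  have : FiniteDimensional E L := Module.Finite.of_restrictScalars_finite F E L
  exact length_localization_purelyInseparable k K E L p q hq

end Groth.Agent.InsepMult31
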